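import Groth.Agent.GalOrbLib.GeomIrr

/-!
# Components over a splitting field of the separable constants are geometrically irreducible
-/

set_option backward.isDefEq.respectTransparency false
set_option backward.isDefEq.respectTransparency.types false

universe u

open CategoryTheory Limits AlgebraicGeometry TopologicalSpace

namespace GalOrbLib

variable {k : Type u} [Field k] {X Y : Scheme.{u}} {f : X ⟶ Spec (CommRingCat.of k)}
  {fY : Y ⟶ Spec (CommRingCat.of k)} (g : Y ⟶ X) (hg : g ≫ f = fY)
  (A : Type u) [Field A] [Algebra k A]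

/-- Base change of a morphism over `k`. -/
noncomputable def bcNat : pullback fY (Spec.map (CommRingCat.ofHom (algebraMap k A))) ⟶
    pullback f (Spec.map (CommRingCat.ofHom (algebraMap k A))) :=
  pullback.map _ _ _ _ g (𝟙 _) (𝟙 _) (by simp [hg]) (by simp)

theorem isPullback_bcNat : IsPullback (pullback.fst fY (Spec.map (CommRingCat.ofHom (algebraMap k A)))) (bcNat g hg A) g
    (pullback.fst f (Spec.map (CommRingCat.ofHom (algebraMap k A)))) := by
  refine IsPullback.of_bot ?_ (pullback.lift_fst _ _ _).symm (IsPullback.of_hasPullback f _)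
  simp only [bcNat, pullback.map, pullback.lift_snd, Category.comp_id, hg]
  exact IsPullback.of_hasPullback fY _

theorem range_bcNat : Set.range (bcNat g hg A) =
    pullback.fst f (Spec.map (CommRingCat.ofHom (algebraMap k A))) ⁻¹' Set.range g := by
  simp [bcNat, Scheme.Pullback.range_map]

theorem bcNat_bcMap (B : Type u) [Field B] [Algebra k B] [Algebra A B] [IsScalarTower k A B] :
    bcNat g hg B ≫ bcMap f A B = bcMap fY A B ≫ bcNat g hg A := by
  apply pullback.hom_ext <;> simp [bcNat, bcMap]

/-- Over a field splitting the separable constants of a component, components are geometrically irreducible. -/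
theorem isIrreducible_preimage_of_split (f : X ⟶ Spec (CommRingCat.of k)) (L E : Type u) [Field L] [Field E]
    [Algebra k L] [Algebra k E] [Algebra L E] [IsScalarTower k L E] [Algebra.IsAlgebraic k L]
    {T : Set X} (hT : T ∈ irreducibleComponents X) (φ : k →+* X.residueField hT.1.genericPoint)
    (hφ : Spec.map (CommRingCat.ofHom φ) = X.fromSpecResidueField hT.1.genericPoint ≫ f)
    (hfd : letI := φ.toAlgebra; FiniteDimensional k (separableClosure k (X.residueField hT.1.genericPoint)))
    (hs : letI := φ.toAlgebra; ∀ a : separableClosure k (X.residueField hT.1.genericPoint),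
      ((minpoly k a).map (algebraMap k L)).Splits)
    {C : Set ↥(pullback f (Spec.map (CommRingCat.ofHom (algebraMap k L))))}
    (hC : C ∈ irreducibleComponents ↥(pullback f (Spec.map (CommRingCat.ofHom (algebraMap k L)))))
    (hCT : pullback.fst f (Spec.map (CommRingCat.ofHom (algebraMap k L))) '' C ⊆ T) :
    IsIrreducible (bcMap f L E ⁻¹' C) := by
  letI := φ.toAlgebra
  let M := separableClosure k (X.residueField hT.1.genericPoint)
  let sκ := Spec.map (CommRingCat.ofHom (algebraMap k (X.residueField hT.1.genericPoint)))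
  let sM := Spec.map (CommRingCat.ofHom (algebraMap k M))
  let sj := Spec.map (CommRingCat.ofHom (algebraMap M (X.residueField hT.1.genericPoint)))
  have hsj : sj ≫ sM = sκ := by rw [← Spec.map_comp, ← CommRingCat.ofHom_comp, ← IsScalarTower.algebraMap_eq]
  have hgi : GeometricallyIrreducible sj :=
    gi_specMap_sep (k := M) (X.residueField hT.1.genericPoint) (separableClosure.separableClosure_eq_bot k _)
  let jL := bcNat (fY := sκ) (X.fromSpecResidueField hT.1.genericPoint) hφ.symm L
  let jE := bcNat (fY := sκ) (X.fromSpecResidueField hT.1.genericPoint) hφ.symm E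
  let mL := bcNat sj hsj L
  let mE := bcNat sj hsj E
  have hmL : GeometricallyIrreducible mL := MorphismProperty.of_isPullback (isPullback_bcNat sj hsj L) hgi
  have hmE : GeometricallyIrreducible mE := MorphismProperty.of_isPullback (isPullback_bcNat sj hsj E) hgi
  have : UniversallyOpen mE :=
    MorphismProperty.of_isPullback (isPullback_bcNat sj hsj E) (inferInstance : UniversallyOpen sj)
  have : IsIntegralHom (Spec.map (CommRingCat.ofHom (algebraMap k L))) :=
    IsIntegralHom.SpecMap_iff.2 (algebraMap_isIntegral_iff.2 inferInstance)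
  have htd : TotallyDisconnectedSpace ↥(pullback sκ (Spec.map (CommRingCat.ofHom (algebraMap k L)))) :=
    SteinLib.totallyDisconnectedSpace_of_isIntegralHom (pullback.fst sκ _)
  have : UniversallyOpen mL :=
    MorphismProperty.of_isPullback (isPullback_bcNat sj hsj L) (inferInstance : UniversallyOpen sj)
  have hmLi : Function.Injective mL := fun a b hab =>
    ((mL.isIrreducible_preimage mL.isOpenMap isIrreducible_singleton).isConnected.isPreconnected.subsingleton)
      (show mL a ∈ ({mL b} : Set _) from hab) rfl
  haveI : FiniteDimensional k M := hfd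
  obtain ⟨hfL, hcL⟩ := card_primeSpectrum_tensor (k := k) M L (fun a => hs a)
  obtain ⟨hfE, hcE⟩ := card_primeSpectrum_tensor (k := k) M E fun a => by
    rw [IsScalarTower.algebraMap_eq k L E, ← Polynomial.map_map]
    exact (hs a).map _
  let eL := (pullbackSpecIso k M L).hom.homeomorph.toEquiv
  let eE := (pullbackSpecIso k M E).hom.homeomorph.toEquiv
  have : Finite ↥(pullback sM (Spec.map (CommRingCat.ofHom (algebraMap k L)))) :=
    Finite.of_equiv (PrimeSpectrum (TensorProduct k M L)) eL.symm
  have : Finite ↥(pullback sM (Spec.map (CommRingCat.ofHom (algebraMap k E)))) :=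
    Finite.of_equiv (PrimeSpectrum (TensorProduct k M E)) eE.symm
  have := surjective_bcMap sM L E
  have hbij : Function.Bijective (bcMap sM L E) :=
    (Nat.bijective_iff_surjective_and_card _).2 ⟨(bcMap sM L E).surjective,
      ((Nat.card_congr eE).trans hcE).trans ((Nat.card_congr eL).trans hcL).symm⟩
  set g := hC.1.genericPoint with hgdef
  have hgC := hC.1.isGenericPoint_genericPoint_closure
  rw [(isClosed_of_mem_irreducibleComponents C hC).closure_eq] at hgC
  have hgx : pullback.fst f (Spec.map (CommRingCat.ofHom (algebraMap k L))) g = hT.1.genericPoint := fst_genericPoint f hT hC hCT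
  obtain ⟨y₀, hy₀⟩ : g ∈ Set.range jL := by
    rw [range_bcNat]
    exact (X.range_fromSpecResidueField _).ge hgx
  obtain ⟨q₁, hq₁⟩ := hbij.2 (mL y₀)
  have hjLi : Function.Injective jL := by
    have : IsPreimmersion jL := MorphismProperty.of_isPullback (isPullback_bcNat _ hφ.symm L) inferInstance
    exact jL.isEmbedding.injective
  have hpre : bcMap f L E ⁻¹' {g} = jE '' (mE ⁻¹' {q₁}) := by
    refine Set.Subset.antisymm (fun z hz => ?_) ?_
    · obtain ⟨y, rfl⟩ : z ∈ Set.range jE := by
        rw [range_bcNat]
        refine (X.range_fromSpecResidueField hT.1.genericPoint).ge ?_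
        show pullback.fst f (Spec.map (CommRingCat.ofHom (algebraMap k E))) z = hT.1.genericPoint
        rw [← bcMap_fst f L E, Scheme.Hom.comp_apply, show bcMap f L E z = g from hz, hgx]
      refine ⟨y, hbij.1 ?_, rfl⟩
      rw [hq₁, ← Scheme.Hom.comp_apply, bcNat_bcMap, Scheme.Hom.comp_apply]
      refine congrArg mL (hjLi ?_)
      rw [hy₀, ← Scheme.Hom.comp_apply, ← bcNat_bcMap, Scheme.Hom.comp_apply]
      exact hz
    · rintro _ ⟨y, hy, rfl⟩
      show bcMap f L E (jE y) = g
      rw [← Scheme.Hom.comp_apply, bcNat_bcMap, Scheme.Hom.comp_apply, ← hy₀]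
      refine congrArg jL (hmLi ?_)
      rw [← Scheme.Hom.comp_apply, ← bcNat_bcMap, Scheme.Hom.comp_apply, show mE y = q₁ from hy, hq₁]
  have : UniversallyOpen (bcMap f L E) :=
    MorphismProperty.of_isPullback (isPullback_bcMap f L E).flip inferInstance
  rw [← hgC.def, (bcMap f L E).isOpenMap.preimage_closure_eq_closure_preimage (bcMap f L E).continuous, hpre]
  exact ((mE.isIrreducible_preimage mE.isOpenMap isIrreducible_singleton).image jE jE.continuous.continuousOn).closure

variable (f : X ⟶ Spec (CommRingCat.of k))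

/-- A finite separable extension over which all components are geometrically irreducible. -/
theorem exists_splitting [Finite ↥(irreducibleComponents ↥X)]
    (hx : ∀ (Z : Set ↥X) (hZ : Z ∈ irreducibleComponents ↥X),
      FBase.ResidueFieldProp f hZ.1.genericPoint (fun K _ _ => FiniteDimensional k (separableClosure k K))) :
    ∃ (L : Type u) (_ : Field L) (_ : Algebra k L), FiniteDimensional k L ∧ Algebra.IsSeparable k L ∧
      ∀ (K : Type u) [Field K] [Algebra k K] [Algebra L K] [IsScalarTower k L K]
        (C : Set ↥(pullback f (Spec.map (CommRingCat.ofHom (algebraMap k L))))),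
        C ∈ irreducibleComponents ↥(pullback f (Spec.map (CommRingCat.ofHom (algebraMap k L)))) →
        IsIrreducible (bcMap f L K ⁻¹' C) := by
  choose φ hφ hfd using fun Z : irreducibleComponents ↥X => hx Z.1 Z.2
  let S := SeparableClosure k
  let N : irreducibleComponents ↥X → IntermediateField k S := fun Z =>
    letI := (φ Z).toAlgebra
    IntermediateField.normalClosure k (separableClosure k (X.residueField Z.2.1.genericPoint)) S
  have hN : ∀ Z, FiniteDimensional k (N Z) := fun Z => by
    letI := (φ Z).toAlgebra
    haveI := hfd Z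
    exact inferInstanceAs (FiniteDimensional k (IntermediateField.normalClosure k _ S))
  refine ⟨↥(⨆ Z, N Z), inferInstance, inferInstance, IntermediateField.finiteDimensional_iSup_of_finite, ?_, ?_⟩
  · exact Algebra.isSeparable_tower_bot_of_isSeparable k _ S
  intro K _ _ _ _ C hC
  haveI : FiniteDimensional k ↥(⨆ Z, N Z) := IntermediateField.finiteDimensional_iSup_of_finite
  obtain ⟨T, hT, hsub⟩ := exists_mem_irreducibleComponents_subset_of_isIrreducible _
    (hC.1.image _ (pullback.fst f (Spec.map (CommRingCat.ofHom (algebraMap k ↥(⨆ Z, N Z))))).continuous.continuousOn)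
  let Z : irreducibleComponents ↥X := ⟨T, hT⟩
  refine isIrreducible_preimage_of_split f _ K hT (φ Z) (hφ Z) (hfd Z) ?_ hC hsub
  letI := (φ Z).toAlgebra
  haveI := hfd Z
  intro a
  haveI : Algebra.IsSeparable k (separableClosure k (X.residueField Z.2.1.genericPoint)) := inferInstance
  let ψ : separableClosure k (X.residueField Z.2.1.genericPoint) →ₐ[k] S := IsSepClosed.lift
  haveI : Normal k (N Z) := normalClosure.normal k _ S
  have hmem : ψ a ∈ N Z := AlgHom.fieldRange_le_normalClosure ψ ⟨a, rfl⟩
  have h1 : ((minpoly k a).map (algebraMap k (N Z))).Splits := by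
    rw [← minpoly.algHom_eq ψ ψ.toRingHom.injective a]
    have := Normal.splits (inferInstance : Normal k (N Z)) (⟨ψ a, hmem⟩ : N Z)
    rwa [minpoly.algHom_eq (N Z).val Subtype.val_injective (⟨ψ a, hmem⟩ : N Z) |>.symm] at this
  let ι : N Z →ₐ[k] ↥(⨆ Z, N Z) := IntermediateField.inclusion (le_iSup N Z)
  have h2 := h1.map ι.toRingHom
  rwa [Polynomial.map_map, show ι.toRingHom.comp (algebraMap k (N Z)) = algebraMap k _ from ι.comp_algebraMap] at h2

/-- Transfer to the iterated base change. -/
theorem isIrreducible_bc_preimage (L K : Type u) [Field L] [Field K] [Algebra k L] [Algebra k K] [Algebra L K]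
    [IsScalarTower k L K] {C : Set ↥(pullback f (Spec.map (CommRingCat.ofHom (algebraMap k L))))}
    (h : IsIrreducible (bcMap f L K ⁻¹' C)) :
    IsIrreducible (pullback.fst (pullback.snd f (Spec.map (CommRingCat.ofHom (algebraMap k L))))
      (Spec.map (CommRingCat.ofHom (algebraMap L K))) ⁻¹' C) := by
  let e := (isPullback_bcMap f L K).isoPullback
  have : pullback.fst (pullback.snd f (Spec.map (CommRingCat.ofHom (algebraMap k L))))
      (Spec.map (CommRingCat.ofHom (algebraMap L K))) ⁻¹' C = e.hom '' (bcMap f L K ⁻¹' C) := by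
    refine Set.Subset.antisymm (fun z hz => ⟨e.inv z, ?_, by simp [← Scheme.Hom.comp_apply]⟩) ?_
    · show bcMap f L K (e.inv z) ∈ C
      rw [← Scheme.Hom.comp_apply, IsPullback.isoPullback_inv_fst]
      exact hz
    · rintro _ ⟨w, hw, rfl⟩
      show (e.hom ≫ pullback.fst _ _) w ∈ C
      rw [IsPullback.isoPullback_hom_fst]
      exact hw
  rw [this]
  exact h.image _ e.hom.continuous.continuousOn

/-- A closed subscheme of a base change with irreducible preimage. -/
theorem irreducibleSpace_bc_closed (L K : Type u) [Field L] [Field K] [Algebra k L] [Algebra L K]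
    {Z : Scheme.{u}} (i : Z ⟶ pullback f (Spec.map (CommRingCat.ofHom (algebraMap k L)))) [IsPreimmersion i]
    (h : IsIrreducible (pullback.fst (pullback.snd f (Spec.map (CommRingCat.ofHom (algebraMap k L))))
      (Spec.map (CommRingCat.ofHom (algebraMap L K))) ⁻¹' Set.range i)) :
    IrreducibleSpace ↥(pullback (i ≫ pullback.snd f (Spec.map (CommRingCat.ofHom (algebraMap k L))))
      (Spec.map (CommRingCat.ofHom (algebraMap L K)))) := by
  let j := bcNat (f := pullback.snd f (Spec.map (CommRingCat.ofHom (algebraMap k L)))) i rfl K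
  have : IsPreimmersion j := MorphismProperty.of_isPullback (isPullback_bcNat i rfl K) inferInstance
  rw [← range_bcNat i rfl K] at h
  obtain ⟨⟨_, z, rfl⟩, hp⟩ := h
  refine (irreducibleSpace_def _).2 ⟨⟨z, trivial⟩, fun u v hu hv ⟨a, _, ha⟩ ⟨b, _, hb⟩ => ?_⟩
  obtain ⟨u', hu', rfl⟩ := j.isEmbedding.isInducing.isOpen_iff.1 hu
  obtain ⟨v', hv', rfl⟩ := j.isEmbedding.isInducing.isOpen_iff.1 hv
  obtain ⟨_, ⟨c, rfl⟩, hc⟩ := hp u' v' hu' hv' ⟨j a, ⟨a, rfl⟩, ha⟩ ⟨j b, ⟨b, rfl⟩, hb⟩
  exact ⟨c, trivial, hc⟩

end GalOrbLib
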