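import Groth.Agent.GalOrbLib.Orbit
import Groth.Agent.MiscFlat6.MorSmall

/-!
# Irreducible components of base changes along algebraic field extensions
-/

set_option backward.isDefEq.respectTransparency false
set_option backward.isDefEq.respectTransparency.types false

universe u

open CategoryTheory Limits AlgebraicGeometry TopologicalSpace

namespace GalOrbLib

/-- Minimal points give components. -/
theorem closure_mem_components {T : Type*} [TopologicalSpace T] [QuasiSober T] {g : T}
    (hg : ∀ z, z ⤳ g → z = g) : closure {g} ∈ irreducibleComponents T := by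
  obtain ⟨h, hh⟩ := QuasiSober.sober (isIrreducible_irreducibleComponent (x := g)) isClosed_irreducibleComponent
  have := hg h (hh.specializes mem_irreducibleComponent)
  rw [← this, hh.def]
  exact irreducibleComponent_mem_irreducibleComponents g

theorem eq_genericPoint_of_mem {T : Type*} [TopologicalSpace T] [QuasiSober T] [T0Space T] {C : Set T}
    (hC : C ∈ irreducibleComponents T) {z : T} (hz : z ⤳ hC.1.genericPoint) : z = hC.1.genericPoint := by
  have hg := hC.1.isGenericPoint_genericPoint_closure
  rw [(isClosed_of_mem_irreducibleComponents C hC).closure_eq] at hg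
  have hle : C ≤ closure {z} := by
    rw [← hg.def]
    exact closure_minimal (Set.singleton_subset_iff.2 (specializes_iff_mem_closure.1 hz)) isClosed_closure
  exact (hz.antisymm (hg.specializes (hC.2 isIrreducible_singleton.closure hle (subset_closure rfl)))).eq

variable {k K : Type u} [Field k] [Field K] [Algebra k K] [Algebra.IsAlgebraic k K]
  {X : Scheme.{u}} (f : X ⟶ Spec (CommRingCat.of k))

theorem isIntegralHom_fst : IsIntegralHom (pullback.fst f (Spec.map (CommRingCat.ofHom (algebraMap k K)))) := by
  have : IsIntegralHom (Spec.map (CommRingCat.ofHom (algebraMap k K))) :=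
    IsIntegralHom.SpecMap_iff.2 (algebraMap_isIntegral_iff.2 inferInstance)
  infer_instance

omit [Algebra.IsAlgebraic k K] in
theorem flat_fst : Flat (pullback.fst f (Spec.map (CommRingCat.ofHom (algebraMap k K)))) := by
  have : Flat (Spec.map (CommRingCat.ofHom (algebraMap k K))) := (HasRingHomProperty.Spec_iff (P := @Flat)).2 (by
    show (algebraMap k K).Flat
    exact RingHom.flat_algebraMap_iff.2 inferInstance)
  infer_instance

/-- Points over a minimal point are minimal. -/
theorem minimal_of_fst {η : X} (hη : ∀ z, z ⤳ η → z = η)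
    {g : ↥(pullback f (Spec.map (CommRingCat.ofHom (algebraMap k K))))}
    (hg : pullback.fst f (Spec.map (CommRingCat.ofHom (algebraMap k K))) g = η) :
    ∀ z, z ⤳ g → z = g := fun z hz => by
  have := isIntegralHom_fst (K := K) f
  refine (MiscFlat6.eq_of_specializes_of_integral (pullback.fst f _) hz ?_).symm
  rw [hg, hη (pullback.fst f (Spec.map (CommRingCat.ofHom (algebraMap k K))) z) (hg ▸ hz.map (pullback.fst f _).continuous)]

omit [Algebra.IsAlgebraic k K] in
/-- Minimal points lie over minimal points. -/
theorem fst_minimal {g : ↥(pullback f (Spec.map (CommRingCat.ofHom (algebraMap k K))))}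
    (hg : ∀ z, z ⤳ g → z = g) :
    ∀ z, z ⤳ pullback.fst f (Spec.map (CommRingCat.ofHom (algebraMap k K))) g →
      z = pullback.fst f (Spec.map (CommRingCat.ofHom (algebraMap k K))) g := fun z hz => by
  have := flat_fst (K := K) f
  obtain ⟨g', hg', rfl⟩ := Flat.generalizingMap (pullback.fst f _) hz
  rw [hg g' hg']

variable {T : Set X} (hT : T ∈ irreducibleComponents X)

include hT in
theorem fst_genericPoint {C : Set ↥(pullback f (Spec.map (CommRingCat.ofHom (algebraMap k K))))}
    (hC : C ∈ irreducibleComponents ↥(pullback f (Spec.map (CommRingCat.ofHom (algebraMap k K)))))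
    (hsub : (pullback.fst f (Spec.map (CommRingCat.ofHom (algebraMap k K)))) '' C ⊆ T) :
    pullback.fst f (Spec.map (CommRingCat.ofHom (algebraMap k K))) hC.1.genericPoint = hT.1.genericPoint := by
  have hg := hT.1.isGenericPoint_genericPoint_closure
  rw [(isClosed_of_mem_irreducibleComponents T hT).closure_eq] at hg
  have hgC := hC.1.isGenericPoint_genericPoint_closure
  rw [(isClosed_of_mem_irreducibleComponents C hC).closure_eq] at hgC
  exact (fst_minimal f (fun z hz => eq_genericPoint_of_mem hC hz) _ (hg.specializes (hsub ⟨_, hgC.mem, rfl⟩))).symm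

include hT in
theorem preimage_eq_sUnion :
    (pullback.fst f (Spec.map (CommRingCat.ofHom (algebraMap k K)))) ⁻¹' T =
      ⋃₀ {C | C ∈ irreducibleComponents ↥(pullback f (Spec.map (CommRingCat.ofHom (algebraMap k K)))) ∧
        (pullback.fst f (Spec.map (CommRingCat.ofHom (algebraMap k K)))) '' C ⊆ T} := by
  let π := pullback.fst f (Spec.map (CommRingCat.ofHom (algebraMap k K)))
  refine Set.Subset.antisymm (fun z hz => ?_) ?_
  · have := flat_fst (K := K) f
    have hg := hT.1.isGenericPoint_genericPoint_closure
    rw [(isClosed_of_mem_irreducibleComponents T hT).closure_eq] at hg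
    obtain ⟨g, hgz, hgη⟩ := Flat.generalizingMap π (hg.specializes hz)
    refine ⟨closure {g}, ⟨closure_mem_components (minimal_of_fst f (fun w hw => eq_genericPoint_of_mem hT hw) hgη), ?_⟩,
      specializes_iff_mem_closure.1 hgz⟩
    refine (image_closure_subset_closure_image π.continuous).trans ?_
    rw [Set.image_singleton, hgη, hg.def]
  · rintro z ⟨C, ⟨-, hC⟩, hz⟩
    exact hC ⟨z, hz, rfl⟩

include hT in
theorem finite_components [LocallyOfFiniteType f] :
    {C | C ∈ irreducibleComponents ↥(pullback f (Spec.map (CommRingCat.ofHom (algebraMap k K)))) ∧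
        (pullback.fst f (Spec.map (CommRingCat.ofHom (algebraMap k K)))) '' C ⊆ T}.Finite := by
  let π := pullback.fst f (Spec.map (CommRingCat.ofHom (algebraMap k K)))
  have := isIntegralHom_fst (K := K) f
  let η := hT.1.genericPoint
  obtain ⟨V, hV, hηV, -⟩ := exists_isAffineOpen_mem_and_subset (U := ⊤) (x := η) trivial
  haveI : IsLocallyNoetherian (pullback f (Spec.map (CommRingCat.ofHom (algebraMap k K)))) :=
    LocallyOfFiniteType.isLocallyNoetherian (pullback.snd f _)
  haveI : IsAffine (π ⁻¹ᵁ V).toScheme := hV.preimage π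
  haveI : IsNoetherian (π ⁻¹ᵁ V).toScheme := ⟨⟩
  have hfin := NoetherianSpace.finite_irreducibleComponents (α := (π ⁻¹ᵁ V).toScheme)
  let W := π ⁻¹ᵁ V
  have hmem : ∀ g, π g = η → g ∈ W := fun g hg => show π g ∈ V from hg.symm ▸ hηV
  let pts := {g : W.toScheme | π (W.ι g) = η}
  have hpts : pts.Finite := by
    refine Set.Finite.of_finite_image (f := fun g => closure {g}) (hfin.subset ?_) ?_
    · rintro _ ⟨g, hg, rfl⟩
      refine closure_mem_components fun z hz => W.ι.isOpenEmbedding.injective ?_
      exact minimal_of_fst f (fun w hw => eq_genericPoint_of_mem hT hw) hg _ (hz.map W.ι.continuous)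
    · intro a _ b _ hab
      exact ((specializes_iff_closure_subset.2 (le_of_eq hab.symm)).antisymm
        (specializes_iff_closure_subset.2 (le_of_eq hab))).eq
  refine (hpts.image (fun g => closure {W.ι g})).subset ?_
  rintro C ⟨hC, hsub⟩
  have hgC := hC.1.isGenericPoint_genericPoint_closure
  rw [(isClosed_of_mem_irreducibleComponents C hC).closure_eq] at hgC
  exact ⟨⟨hC.1.genericPoint, hmem _ (fst_genericPoint f hT hC hsub)⟩, fst_genericPoint f hT hC hsub, hgC.def⟩

include hT in
theorem exists_gal_image [Normal k K]
    {C C' : Set ↥(pullback f (Spec.map (CommRingCat.ofHom (algebraMap k K))))}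
    (hC : C ∈ irreducibleComponents ↥(pullback f (Spec.map (CommRingCat.ofHom (algebraMap k K)))))
    (hC' : C' ∈ irreducibleComponents ↥(pullback f (Spec.map (CommRingCat.ofHom (algebraMap k K)))))
    (h : (pullback.fst f (Spec.map (CommRingCat.ofHom (algebraMap k K)))) '' C ⊆ T)
    (h' : (pullback.fst f (Spec.map (CommRingCat.ofHom (algebraMap k K)))) '' C' ⊆ T) :
    ∃ σ : K ≃ₐ[k] K, gal f σ '' C = C' := by
  obtain ⟨σ, hσ⟩ := exists_gal_eq f hC.1.genericPoint hC'.1.genericPoint
    ((fst_genericPoint f hT hC h).trans (fst_genericPoint f hT hC' h').symm)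
  refine ⟨σ, ?_⟩
  have := isIso_gal f σ
  have hg := hC.1.isGenericPoint_genericPoint_closure
  rw [(isClosed_of_mem_irreducibleComponents C hC).closure_eq] at hg
  have hg' := hC'.1.isGenericPoint_genericPoint_closure
  rw [(isClosed_of_mem_irreducibleComponents C' hC').closure_eq] at hg'
  refine Eq.trans ?_ hg'.def
  rw [← hσ, ← Set.image_singleton (f := ⇑(gal f σ))]
  refine Eq.trans ?_ ((gal f σ).homeomorph.image_closure {hC.1.genericPoint})
  rw [hg.def]
  rfl

end GalOrbLib
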