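import Groth.Agent.GalOrbLib.Components
import Groth.Agent.SweepSix.GeomConn
import Groth.Agent.SteinLib.Fibre
import Groth.Prelude.Def_FDesc

/-!
# Counting components of base changes
-/

set_option backward.isDefEq.respectTransparency false
set_option backward.isDefEq.respectTransparency.types false

universe u

open CategoryTheory Limits AlgebraicGeometry TopologicalSpace

namespace GalOrbLib

variable {k : Type u} [Field k]

/-- Primes of the tensor product with a finite separable extension which splits. -/
theorem card_primeSpectrum_tensor (L E : Type u) [Field L] [Field E] [Algebra k L] [Algebra k E]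
    [FiniteDimensional k L] [Algebra.IsSeparable k L]
    (hsplit : ∀ x : L, ((minpoly k x).map (algebraMap k E)).Splits) :
    Finite (PrimeSpectrum (TensorProduct k L E)) ∧
      Nat.card (PrimeSpectrum (TensorProduct k L E)) = Module.finrank k L := by
  classical
  let ev : (L →ₐ[k] E) → (TensorProduct k L E →ₐ[k] E) := fun φ =>
    Algebra.TensorProduct.lift φ (AlgHom.id k E) (fun _ _ => Commute.all _ _)
  let F : (L →ₐ[k] E) → PrimeSpectrum (TensorProduct k L E) := fun φ => ⟨RingHom.ker (ev φ), RingHom.ker_isPrime _⟩
  have hinj : Function.Injective F := fun φ ψ h => AlgHom.ext fun x => by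
    have h1 : TensorProduct.tmul k x (1 : E) - TensorProduct.tmul k (1 : L) (φ x) ∈ RingHom.ker (ev φ) := by
      simp [ev, RingHom.mem_ker]
    have h2 : RingHom.ker (ev φ) = RingHom.ker (ev ψ) := congrArg PrimeSpectrum.asIdeal h
    rw [h2] at h1
    have h3 : ψ x - φ x = 0 := by simpa [ev, RingHom.mem_ker] using h1
    exact (sub_eq_zero.1 h3).symm
  have hsurj : Function.Surjective F := fun m => by
    let M := m.asIdeal.ResidueField
    let q : TensorProduct k L E →ₐ[k] M := IsScalarTower.toAlgHom k _ M
    let i : E →ₐ[k] M := q.comp Algebra.TensorProduct.includeRight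
    let j : L →ₐ[k] M := q.comp Algebra.TensorProduct.includeLeft
    have hmem : ∀ x : L, j x ∈ i.range := fun x => by
      letI : Algebra E M := i.toRingHom.toAlgebra
      haveI : IsScalarTower k E M := IsScalarTower.of_algebraMap_eq fun a => (i.commutes a).symm
      have h0 : Polynomial.aeval (j x) (minpoly k x) = 0 := by
        rw [Polynomial.aeval_algHom_apply, minpoly.aeval, map_zero]
      have hne : (minpoly k x).map (algebraMap k E) ≠ 0 :=
        Polynomial.map_ne_zero (minpoly.ne_zero (Algebra.IsIntegral.isIntegral x))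
      have hroot : (((minpoly k x).map (algebraMap k E)).map (algebraMap E M)).IsRoot (j x) := by
        rw [Polynomial.map_map, ← IsScalarTower.algebraMap_eq, Polynomial.IsRoot.def, Polynomial.eval_map_algebraMap]
        exact h0
      have hr : j x ∈ (((minpoly k x).map (algebraMap k E)).map (algebraMap E M)).roots :=
        (Polynomial.mem_roots (Polynomial.map_ne_zero hne)).2 hroot
      rw [(hsplit x).roots_map] at hr
      obtain ⟨r, -, hr⟩ := Multiset.mem_map.1 hr
      exact ⟨r, hr⟩
    let e := AlgEquiv.ofInjective i i.toRingHom.injective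
    let φ : L →ₐ[k] E := e.symm.toAlgHom.comp (j.codRestrict i.range hmem)
    have hφ : i.comp (ev φ) = q := by
      refine Algebra.TensorProduct.ext' fun a b => ?_
      have h1 : i (φ a) = j a := congrArg Subtype.val (e.apply_symm_apply ⟨j a, hmem a⟩)
      simp only [ev, AlgHom.coe_comp, Function.comp_apply, Algebra.TensorProduct.lift_tmul, map_mul, AlgHom.id_apply, h1]
      show q (TensorProduct.tmul k a (1 : E)) * q (TensorProduct.tmul k (1 : L) b) = q (TensorProduct.tmul k a b)
      rw [← map_mul, Algebra.TensorProduct.tmul_mul_tmul, mul_one, one_mul]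
    refine ⟨φ, PrimeSpectrum.ext (Ideal.ext fun z => ?_)⟩
    show ev φ z = 0 ↔ z ∈ m.asIdeal
    rw [← map_eq_zero_iff i i.toRingHom.injective, show i (ev φ z) = q z from DFunLike.congr_fun hφ z]
    exact Ideal.algebraMap_residueField_eq_zero
  let e := Equiv.ofBijective F ⟨hinj, hsurj⟩
  exact ⟨Finite.of_equiv _ e, by rw [← Nat.card_congr e, AlgHom.natCard_of_splits k L E hsplit]⟩

variable {X : Scheme.{u}} (f : X ⟶ Spec (CommRingCat.of k)) (x : X) (φ : k →+* X.residueField x)
  (hφ : Spec.map (CommRingCat.ofHom φ) = X.fromSpecResidueField x ≫ f) (E : Type u) [Field E] [Algebra k E]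

include hφ in
/-- The fibre over a point, the finite scheme of separable constants and the comparison. -/
theorem fibre_data (hsplit : letI := φ.toAlgebra; FiniteDimensional k (separableClosure k (X.residueField x)))
    (hs : letI := φ.toAlgebra; ∀ a : separableClosure k (X.residueField x), ((minpoly k a).map (algebraMap k E)).Splits) :
    ∃ (P Q : Scheme.{u}) (j : P ⟶ FBase.bc f E) (m : P ⟶ Q),
      Set.range j = (FBase.bcπ f E) ⁻¹' {x} ∧ Function.Injective j ∧ GeometricallyConnected m ∧
      (Algebra.IsAlgebraic k E → TotallyDisconnectedSpace P) ∧ Finite Q ∧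
      (letI := φ.toAlgebra; Nat.card Q = Module.finrank k (separableClosure k (X.residueField x))) := by
  letI := φ.toAlgebra
  let κ : Type u := X.residueField x
  let L := separableClosure k κ
  let sκ := Spec.map (CommRingCat.ofHom (algebraMap k κ))
  let sL := Spec.map (CommRingCat.ofHom (algebraMap k L))
  let sj := Spec.map (CommRingCat.ofHom (algebraMap L κ))
  let sE := Spec.map (CommRingCat.ofHom (algebraMap k E))
  have hsκ : sκ = X.fromSpecResidueField x ≫ f := hφ
  have hsj : sj ≫ sL = sκ := by rw [← Spec.map_comp, ← CommRingCat.ofHom_comp, ← IsScalarTower.algebraMap_eq]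
  let j : pullback sκ sE ⟶ pullback f sE :=
    pullback.map sκ sE f sE (X.fromSpecResidueField x) (𝟙 _) (𝟙 _) (by simp [hsκ]) (by simp)
  let m : pullback sκ sE ⟶ pullback sL sE :=
    pullback.lift (pullback.fst _ _ ≫ sj) (pullback.snd _ _) (by rw [Category.assoc, hsj, pullback.condition])
  have hm : IsPullback (pullback.fst sκ sE) m sj (pullback.fst sL sE) := by
    refine IsPullback.of_bot ?_ (pullback.lift_fst _ _ _).symm (IsPullback.of_hasPullback sL sE)
    rw [hsj, pullback.lift_snd]
    exact IsPullback.of_hasPullback sκ sE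
  have hgc : GeometricallyConnected sj :=
    SweepSix.GeomConn.gc_specMap (k := L) κ (separableClosure.separableClosure_eq_bot k κ)
  refine ⟨_, _, j, m, ?_, ?_, MorphismProperty.of_isPullback hm hgc, fun halg => ?_, ?_⟩
  · show Set.range j = (pullback.fst f sE) ⁻¹' {x}
    simp [j, Scheme.Pullback.range_map, Scheme.range_fromSpecResidueField]
    exact congrArg _ (X.range_fromSpecResidueField x)
  · have hjs : IsPullback (pullback.fst sκ sE) j (X.fromSpecResidueField x) (FBase.bcπ f E) := by
      refine IsPullback.of_bot ?_ (pullback.lift_fst _ _ _).symm (IsPullback.of_hasPullback f sE)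
      simp only [j, pullback.map, pullback.lift_snd, Category.comp_id, ← hsκ]
      exact IsPullback.of_hasPullback sκ sE
    have : IsPreimmersion j := MorphismProperty.of_isPullback hjs inferInstance
    exact j.isEmbedding.injective
  · have : IsIntegralHom sE := IsIntegralHom.SpecMap_iff.2 (algebraMap_isIntegral_iff.2 inferInstance)
    exact SteinLib.totallyDisconnectedSpace_of_isIntegralHom (pullback.fst sκ sE)
  · obtain ⟨h1, h2⟩ := card_primeSpectrum_tensor (k := k) L E hs
    let e := (pullbackSpecIso k L E).hom.homeomorph.toEquiv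
    exact ⟨Finite.of_equiv (PrimeSpectrum (TensorProduct k L E)) e.symm, (Nat.card_congr e).trans h2⟩

theorem isConnected_fibre {P Q : Scheme.{u}} (m : P ⟶ Q) [GeometricallyConnected m] (q : Q) :
    _root_.IsConnected (m ⁻¹' {q}) := by
  rw [← m.range_fiberι]
  exact isConnected_range (m.fiberι q).continuous

theorem connectedComponents_le [ConnectedSpace X] {Ω : Type u} [Field Ω] [Algebra k Ω] [IsAlgClosed Ω] :
    FBase.ResidueFieldProp f x (fun K _ _ => FiniteDimensional k (separableClosure k K) →
      Finite (_root_.ConnectedComponents ↥(FBase.bc f Ω)) ∧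
        Nat.card (_root_.ConnectedComponents ↥(FBase.bc f Ω)) ≤ Module.finrank k (separableClosure k K)) := by
  obtain ⟨φ, hφ⟩ := Spec.map_surjective (X.fromSpecResidueField x ≫ f)
  refine ⟨φ.hom, hφ, fun hfd => ?_⟩
  letI := φ.hom.toAlgebra
  obtain ⟨P, Q, j, m, hj, -, hm, -, hQf, hQc⟩ :=
    fibre_data f x φ.hom hφ Ω hfd (fun a => IsAlgClosed.splits _)
  have hne : ∀ q : Q, ∃ y, m y = q := fun q => (isConnected_fibre m q).nonempty
  choose y hy using hne
  let G : Q → _root_.ConnectedComponents ↥(FBase.bc f Ω) := fun q => ConnectedComponents.mk (j (y q))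
  have hG : Function.Surjective G := fun c => by
    obtain ⟨z, rfl⟩ := ConnectedComponents.surjective_coe c
    have him : FBase.bcπ f Ω '' connectedComponent z = connectedComponent (FBase.bcπ f Ω z) :=
      ConnBC.image_connectedComponent f Ω z
    rw [PreconnectedSpace.connectedComponent_eq_univ (FBase.bcπ f Ω z)] at him
    obtain ⟨w, hw, hwx⟩ := him.symm.le (Set.mem_univ x)
    obtain ⟨y₁, rfl⟩ : w ∈ Set.range j := by rw [hj]; exact hwx
    refine ⟨m y₁, ConnectedComponents.coe_eq_coe.2 ?_⟩
    have h1 := ((isConnected_fibre m (m y₁)).isPreconnected.image j j.continuous.continuousOn).subset_connectedComponent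
      ⟨y₁, rfl, rfl⟩ ⟨y (m y₁), hy _, rfl⟩
    rw [← connectedComponent_eq h1, ← connectedComponent_eq hw]
  exact ⟨Finite.of_surjective G hG, hQc ▸ Nat.card_le_card_of_surjective G hG⟩

theorem card_components [IrreducibleSpace X] [IsGalois k E] :
    FBase.ResidueFieldProp f (genericPoint X) (fun K _ _ =>
      FiniteDimensional k (separableClosure k K) → Nonempty (separableClosure k K →ₐ[k] E) →
        Nat.card (irreducibleComponents ↥(FBase.bc f E)) = Module.finrank k (separableClosure k K)) := by
  obtain ⟨φ, hφ⟩ := Spec.map_surjective (X.fromSpecResidueField (genericPoint X) ≫ f)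
  refine ⟨φ.hom, hφ, fun hfd ⟨ψ⟩ => ?_⟩
  letI := φ.hom.toAlgebra
  obtain ⟨P, Q, j, m, hj, hji, hm, htd, hQf, hQc⟩ :=
    fibre_data f (genericPoint X) φ.hom hφ E hfd (fun a => by
      rw [← minpoly.algHom_eq ψ ψ.toRingHom.injective a]
      exact Normal.splits inferInstance (ψ a))
  have := htd inferInstance
  have hT : (Set.univ : Set X) ∈ irreducibleComponents X :=
    ⟨IrreducibleSpace.isIrreducible_univ X, fun _ _ _ => Set.subset_univ _⟩
  have hη : hT.1.genericPoint = genericPoint X := by
    have h1 := hT.1.isGenericPoint_genericPoint_closure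
    rw [closure_univ] at h1
    exact h1.eq (genericPoint_spec X)
  have hmi : Function.Injective m := fun a b hab =>
    ((isConnected_fibre m (m b)).isPreconnected.subsingleton) hab rfl
  have hmem : ∀ C : irreducibleComponents ↥(FBase.bc f E), ∃ y, j y = C.2.1.genericPoint := fun C => by
    have h1 : C.2.1.genericPoint ∈ Set.range j := by
      rw [hj]
      exact (fst_genericPoint f hT C.2 (Set.subset_univ _)).trans hη
    exact h1
  choose y hy using hmem
  rw [← hQc]
  refine Nat.card_congr (Equiv.ofBijective (fun C => m (y C)) ⟨fun C C' h => Subtype.ext ?_, fun q => ?_⟩)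
  · have hg := C.2.1.isGenericPoint_genericPoint_closure
    have hg' := C'.2.1.isGenericPoint_genericPoint_closure
    rw [(isClosed_of_mem_irreducibleComponents _ C.2).closure_eq] at hg
    rw [(isClosed_of_mem_irreducibleComponents _ C'.2).closure_eq] at hg'
    rw [← hg.def, ← hg'.def, ← hy, ← hy, hmi h]
  · obtain ⟨a, rfl⟩ := (isConnected_fibre m q).nonempty
    have hπ : FBase.bcπ f E (j a) = hT.1.genericPoint := by
      rw [hη]
      exact hj.le ⟨a, rfl⟩
    have hmin := minimal_of_fst f (fun z hz => eq_genericPoint_of_mem hT hz) hπ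
    let C : irreducibleComponents ↥(FBase.bc f E) := ⟨closure {j a}, closure_mem_components hmin⟩
    refine ⟨C, congrArg m (hji ?_)⟩
    rw [hy]
    have hg := C.2.1.isGenericPoint_genericPoint_closure
    rw [(isClosed_of_mem_irreducibleComponents _ C.2).closure_eq] at hg
    exact hg.eq isGenericPoint_closure

end GalOrbLib
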