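import Groth.Agent.GalOrbLib.Components
import Groth.Agent.SweepSix.GeomConn

/-!
# Subsets whose preimage in a geometric base change lies in a single component
-/

set_option backward.isDefEq.respectTransparency false
set_option backward.isDefEq.respectTransparency.types false

universe u

open CategoryTheory Limits AlgebraicGeometry TopologicalSpace

namespace GalOrbLib

variable {k : Type u} [Field k] {X : Scheme.{u}} (f : X ⟶ Spec (CommRingCat.of k))
variable (A B : Type u) [Field A] [Field B] [Algebra k A] [Algebra k B] [Algebra A B] [IsScalarTower k A B]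

/-- The map between base changes of a tower. -/
noncomputable def bcMap : pullback f (Spec.map (CommRingCat.ofHom (algebraMap k B))) ⟶
    pullback f (Spec.map (CommRingCat.ofHom (algebraMap k A))) :=
  pullback.lift (pullback.fst _ _) (pullback.snd _ _ ≫ Spec.map (CommRingCat.ofHom (algebraMap A B))) (by
    rw [Category.assoc, pullback.condition, ← Spec.map_comp, ← CommRingCat.ofHom_comp, ← IsScalarTower.algebraMap_eq])

theorem bcMap_fst : bcMap f A B ≫ pullback.fst _ _ = pullback.fst _ _ := pullback.lift_fst _ _ _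

theorem isPullback_bcMap : IsPullback (bcMap f A B) (pullback.snd f (Spec.map (CommRingCat.ofHom (algebraMap k B))))
    (pullback.snd f (Spec.map (CommRingCat.ofHom (algebraMap k A))))
    (Spec.map (CommRingCat.ofHom (algebraMap A B))) := by
  refine IsPullback.of_right ?_ (pullback.lift_snd _ _ _) (IsPullback.of_hasPullback f _)
  rw [bcMap_fst, ← Spec.map_comp, ← CommRingCat.ofHom_comp, ← IsScalarTower.algebraMap_eq]
  exact IsPullback.of_hasPullback f _

theorem surjective_bcMap : Surjective (bcMap f A B) :=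
  MorphismProperty.of_isPullback (isPullback_bcMap f A B).flip inferInstance

theorem isIrreducible_preimage_bcMap [IsAlgClosed A]
    {s : Set ↥(pullback f (Spec.map (CommRingCat.ofHom (algebraMap k A))))} (hs : IsIrreducible s) :
    IsIrreducible (bcMap f A B ⁻¹' s) := by
  have h1 : GeometricallyIrreducible (bcMap f A B) :=
    MorphismProperty.of_isPullback (isPullback_bcMap f A B).flip (SweepSix.GeomConn.gi_specMap (k := A) B)
  have h2 : UniversallyOpen (bcMap f A B) :=
    MorphismProperty.of_isPullback (isPullback_bcMap f A B).flip inferInstance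
  exact (bcMap f A B).isIrreducible_preimage (bcMap f A B).isOpenMap hs

theorem preimage_mem_components [IsAlgClosed A]
    {D : Set ↥(pullback f (Spec.map (CommRingCat.ofHom (algebraMap k A))))}
    (hD : D ∈ irreducibleComponents ↥(pullback f (Spec.map (CommRingCat.ofHom (algebraMap k A))))) :
    bcMap f A B ⁻¹' D ∈ irreducibleComponents ↥(pullback f (Spec.map (CommRingCat.ofHom (algebraMap k B)))) := by
  refine ⟨isIrreducible_preimage_bcMap f A B hD.1, fun E hE hle => ?_⟩
  have := surjective_bcMap f A B
  have h1 : D ≤ bcMap f A B '' E := fun d hd => by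
    obtain ⟨e, rfl⟩ := (bcMap f A B).surjective d
    exact ⟨e, hle hd, rfl⟩
  have h2 := hD.2 (hE.image _ (bcMap f A B).continuous.continuousOn) h1
  exact fun e he => h2 ⟨e, he, rfl⟩

theorem image_mem_components [IsAlgClosed A]
    {C : Set ↥(pullback f (Spec.map (CommRingCat.ofHom (algebraMap k B))))}
    (hC : C ∈ irreducibleComponents ↥(pullback f (Spec.map (CommRingCat.ofHom (algebraMap k B))))) :
    bcMap f A B '' C ∈ irreducibleComponents ↥(pullback f (Spec.map (CommRingCat.ofHom (algebraMap k A)))) ∧
      bcMap f A B ⁻¹' (bcMap f A B '' C) = C := by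
  obtain ⟨D, hD, hsub⟩ := exists_mem_irreducibleComponents_subset_of_isIrreducible _
    (hC.1.image _ (bcMap f A B).continuous.continuousOn)
  have h1 : C = bcMap f A B ⁻¹' D :=
    le_antisymm (fun c hc => hsub ⟨c, hc, rfl⟩)
      (hC.2 (isIrreducible_preimage_bcMap f A B hD.1) fun c hc => hsub ⟨c, hc, rfl⟩)
  have := surjective_bcMap f A B
  rw [h1, Set.image_preimage_eq _ (bcMap f A B).surjective]
  exact ⟨hD, rfl⟩

theorem homeo_image_mem {T : Type*} [TopologicalSpace T] (e : T ≃ₜ T) {C : Set T}
    (hC : C ∈ irreducibleComponents T) : e '' C ∈ irreducibleComponents T := by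
  refine ⟨hC.1.image _ e.continuous.continuousOn, fun E hE hle => ?_⟩
  have h := hC.2 (hE.image _ e.symm.continuous.continuousOn) fun c hc => ⟨e c, hle ⟨c, hc, rfl⟩, e.symm_apply_apply c⟩
  exact fun x hx => ⟨e.symm x, h ⟨x, hx, rfl⟩, e.apply_symm_apply x⟩

variable {K : Type u} [Field K] [Algebra k K] [IsAlgClosed K]

theorem unique_component (Z : Set X)
    (C' : Set ↑(pullback f (Spec.map (CommRingCat.ofHom (algebraMap k K)))))
    (hC' : C' ∈ irreducibleComponents ↑(pullback f (Spec.map (CommRingCat.ofHom (algebraMap k K)))))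
    (huniq : ∀ D ∈ irreducibleComponents ↑(pullback f (Spec.map (CommRingCat.ofHom (algebraMap k K)))),
      (pullback.fst f (Spec.map (CommRingCat.ofHom (algebraMap k K)))).base ⁻¹' Z ⊆ D ↔ D = C') :
    (pullback.fst f (Spec.map (CommRingCat.ofHom (algebraMap k K)))).base ⁻¹' ((pullback.fst f (Spec.map (CommRingCat.ofHom (algebraMap k K)))).base '' C') = C' ∧
      (pullback.fst f (Spec.map (CommRingCat.ofHom (algebraMap k K)))).base '' C' ∈ irreducibleComponents X ∧
      Z ⊆ (pullback.fst f (Spec.map (CommRingCat.ofHom (algebraMap k K)))).base '' C' ∧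
      (∀ (L : Type u) [Field L] [Algebra k L],
        IsIrreducible ((pullback.fst f (Spec.map (CommRingCat.ofHom (algebraMap k L)))).base ⁻¹'
          ((pullback.fst f (Spec.map (CommRingCat.ofHom (algebraMap k K)))).base '' C'))) ∧
      ((∀ D ∈ irreducibleComponents ↑(pullback f (Spec.map (CommRingCat.ofHom (algebraMap k K)))),
          (D ∩ (pullback.fst f (Spec.map (CommRingCat.ofHom (algebraMap k K)))).base ⁻¹' Z).Nonempty → D = C') →
        ∀ D ∈ irreducibleComponents X, (D ∩ Z).Nonempty → D = (pullback.fst f (Spec.map (CommRingCat.ofHom (algebraMap k K)))).base '' C') := by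
  haveI : IsAlgClosure k (algebraicClosure k K) := inferInstance
  haveI : IsAlgClosed (algebraicClosure k K) := IsAlgClosure.isAlgClosed k
  haveI : Algebra.IsAlgebraic k (algebraicClosure k K) := algebraicClosure.isAlgebraic k K
  let k0 := algebraicClosure k K
  let p := pullback.fst f (Spec.map (CommRingCat.ofHom (algebraMap k K)))
  let p0 := pullback.fst f (Spec.map (CommRingCat.ofHom (algebraMap k k0)))
  let p1 := bcMap f k0 K
  have hs1 : Surjective p1 := surjective_bcMap f k0 K
  have hp : ∀ z, p z = p0 (p1 z) := fun z => by rw [← Scheme.Hom.comp_apply, bcMap_fst]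
  obtain ⟨hC0, hC1⟩ := image_mem_components f k0 K hC'
  let C0 := p1 '' C'
  have himg : p '' C' = p0 '' C0 := by
    rw [Set.image_image]
    exact Set.image_congr fun z _ => hp z
  have hpre : ∀ s : Set X, p ⁻¹' s = p1 ⁻¹' (p0 ⁻¹' s) := fun s => Set.ext fun z => by
    simp only [Set.mem_preimage, hp]
  have huniq0 : ∀ D ∈ irreducibleComponents ↥(pullback f (Spec.map (CommRingCat.ofHom (algebraMap k k0)))),
      (p0 ⁻¹' Z ⊆ D ↔ D = C0) := fun D hD => by
    rw [← Set.preimage_subset_preimage_iff (f := ⇑p1) (fun z _ => p1.surjective z), ← hpre]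
    refine (huniq _ (preimage_mem_components f k0 K hD)).trans ⟨fun h => ?_, fun h => ?_⟩
    · rw [← Set.image_preimage_eq D p1.surjective]
      exact congrArg _ h
    · rw [h]; exact hC1
  have hZ0 : p0 ⁻¹' Z ⊆ C0 := (huniq0 C0 hC0).2 rfl
  have hinv : ∀ σ : k0 ≃ₐ[k] k0, gal f σ '' C0 = C0 := fun σ => by
    have := isIso_gal f σ
    refine (huniq0 _ (homeo_image_mem (gal f σ).homeomorph hC0)).1 fun z hz => ?_
    obtain ⟨w, rfl⟩ := (gal f σ).surjective z
    refine ⟨w, hZ0 ?_, rfl⟩
    show p0 w ∈ Z
    rw [show p0 w = p0 (gal f σ w) by rw [← Scheme.Hom.comp_apply, gal_fst]]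
    exact hz
  have hC0' : p0 ⁻¹' (p0 '' C0) = C0 := by
    refine Set.Subset.antisymm ?_ (Set.subset_preimage_image _ _)
    rintro z ⟨w, hw, hwz⟩
    obtain ⟨σ, rfl⟩ := exists_gal_eq f w z hwz
    rw [← hinv σ]
    exact ⟨w, hw, rfl⟩
  have := isIntegralHom_fst (K := k0) f
  have hgC := hC0.1.isGenericPoint_genericPoint_closure
  rw [(isClosed_of_mem_irreducibleComponents C0 hC0).closure_eq] at hgC
  have hη := fst_minimal f (fun z hz => eq_genericPoint_of_mem hC0 hz)
  have hcomp : p0 '' C0 = closure {p0 hC0.1.genericPoint} := by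
    rw [← Set.image_singleton, p0.isClosedMap.closure_image_eq_of_continuous p0.continuous, hgC.def]
  refine ⟨?_, ?_, ?_, fun L _ _ => ?_, fun hmeet D hD hDZ => ?_⟩
  · show p ⁻¹' (p '' C') = C'
    rw [himg, hpre, hC0']
    exact hC1
  · show p '' C' ∈ _
    rw [himg, hcomp]
    exact closure_mem_components hη
  · show Z ⊆ p '' C'
    intro z hz
    rw [himg]
    obtain ⟨w, rfl⟩ := p0.surjective z
    exact ⟨w, hZ0 hz, rfl⟩
  · show IsIrreducible ((pullback.fst f (Spec.map (CommRingCat.ofHom (algebraMap k L)))) ⁻¹' (p '' C'))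
    obtain ⟨E, _, a, b, hab⟩ := SweepSix.GeomConn.exists_compositum (k := k) k0 L
    letI : Algebra k0 E := a.toAlgebra
    letI : Algebra L E := b.toAlgebra
    letI : Algebra k E := (a.comp (algebraMap k k0)).toAlgebra
    haveI : IsScalarTower k k0 E := IsScalarTower.of_algebraMap_eq fun _ => rfl
    haveI : IsScalarTower k L E := IsScalarTower.of_algebraMap_eq fun r => DFunLike.congr_fun hab r
    have hsL := surjective_bcMap f L E
    have h := (isIrreducible_preimage_bcMap f k0 E hC0.1).image (bcMap f L E) (bcMap f L E).continuous.continuousOn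
    convert h using 1
    have hcomp' : ∀ z, pullback.fst f (Spec.map (CommRingCat.ofHom (algebraMap k L))) (bcMap f L E z) =
        p0 (bcMap f k0 E z) := fun z => by
      rw [← Scheme.Hom.comp_apply, ← Scheme.Hom.comp_apply, bcMap_fst, bcMap_fst]
    rw [himg]
    refine Set.Subset.antisymm (fun y hy => ?_) ?_
    · obtain ⟨z, rfl⟩ := (bcMap f L E).surjective y
      refine ⟨z, ?_, rfl⟩
      rw [Set.mem_preimage, hcomp'] at hy
      exact hC0'.le hy
    · rintro _ ⟨z, hz, rfl⟩
      rw [Set.mem_preimage, hcomp']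
      exact ⟨_, hz, rfl⟩
  · show D = p '' C'
    rw [himg]
    obtain ⟨z, hzD, hzZ⟩ := hDZ
    have hgD := hD.1.isGenericPoint_genericPoint_closure
    rw [(isClosed_of_mem_irreducibleComponents D hD).closure_eq] at hgD
    obtain ⟨g, hg⟩ := p0.surjective hD.1.genericPoint
    have hmin := minimal_of_fst f (fun w hw => eq_genericPoint_of_mem hD hw) hg
    have hD0 := closure_mem_components hmin
    have himD : p0 '' closure {g} = D := by
      rw [← p0.isClosedMap.closure_image_eq_of_continuous p0.continuous, Set.image_singleton, hg, hgD.def]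
    obtain ⟨z0, hz0, rfl⟩ := himD.symm.le hzD
    have hE : p1 ⁻¹' closure {g} = C' := hmeet _ (preimage_mem_components f k0 K hD0) (by
      obtain ⟨w, hw⟩ := p1.surjective z0
      exact ⟨w, show p1 w ∈ closure {g} from hw.symm ▸ hz0, show p w ∈ Z from by rw [hp, hw]; exact hzZ⟩)
    rw [← himD, show C0 = p1 '' C' from rfl, ← hE, Set.image_preimage_eq _ p1.surjective]

end GalOrbLib
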