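import Groth.Agent.GalOrbLib.CountComp
import Groth.Agent.GalOrbLib.UniqueComp

/-!
# Geometric irreducibility from separably closed constants
-/

set_option backward.isDefEq.respectTransparency false
set_option backward.isDefEq.respectTransparency.types false

universe u

open CategoryTheory Limits AlgebraicGeometry TopologicalSpace

namespace GalOrbLib

variable {k : Type u} [Field k]

/-- A field extension with separably closed constants is geometrically irreducible. -/
theorem gi_specMap_sep (K : Type u) [Field K] [Algebra k K] (hk : separableClosure k K = ⊥) :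
    GeometricallyIrreducible (Spec.map (CommRingCat.ofHom (algebraMap k K))) := by
  let f := Spec.map (CommRingCat.ofHom (algebraMap k K))
  let kb := AlgebraicClosure k
  let s0 := Spec.map (CommRingCat.ofHom (algebraMap k kb))
  have hgc : GeometricallyConnected f := SweepSix.GeomConn.gc_specMap K hk
  have : ConnectedSpace ↥(pullback f s0) :=
    GeometricallyConnected.geometrically_connectedSpace s0 _ _ (.of_hasPullback _ _)
  have : IsIntegralHom s0 := IsIntegralHom.SpecMap_iff.2 (algebraMap_isIntegral_iff.2 inferInstance)
  have htd : TotallyDisconnectedSpace ↥(pullback f s0) :=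
    SteinLib.totallyDisconnectedSpace_of_isIntegralHom (pullback.fst f s0)
  have : Subsingleton ↥(pullback f s0) :=
    ⟨fun a b => (isPreconnected_univ).subsingleton (Set.mem_univ a) (Set.mem_univ b)⟩
  have : IrreducibleSpace ↥(pullback f s0) := (irreducibleSpace_def _).2 ⟨Set.univ_nonempty,
    fun u v _ _ ⟨a, _, ha⟩ ⟨b, _, hb⟩ => ⟨a, trivial, ha, (Subsingleton.elim b a) ▸ hb⟩⟩
  have : GeometricallyIrreducible (pullback.snd f s0) :=
    ⟨geometrically_iff_of_commRing_of_isClosedUnderIsomorphisms.mpr fun F _ _ => by
      have := SweepSix.GeomConn.gi_specMap (k := kb) F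
      infer_instance⟩
  exact SweepSix.GeomConn.gi_of_bc f kb

theorem separableClosure_eq_bot_of_isSepClosed [IsSepClosed k] (K : Type u) [Field K] [Algebra k K] :
    separableClosure k K = ⊥ := by
  refine eq_bot_iff.mpr fun x hx => ?_
  rw [mem_separableClosure_iff] at hx
  obtain ⟨c, hc⟩ := minpoly.mem_range_of_degree_eq_one k x
    (IsSepClosed.degree_eq_one_of_irreducible k (minpoly.irreducible hx.isIntegral) hx)
  exact IntermediateField.mem_bot.mpr ⟨c, hc⟩

variable {X : Scheme.{u}} (f : X ⟶ Spec (CommRingCat.of k))

theorem gi_fst [IsSepClosed k] (K : Type u) [Field K] [Algebra k K] :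
    GeometricallyIrreducible (pullback.fst f (Spec.map (CommRingCat.ofHom (algebraMap k K)))) :=
  MorphismProperty.pullback_fst _ _ (gi_specMap_sep K (separableClosure_eq_bot_of_isSepClosed K))

/-- Images of components are injective over separably closed fields. -/
theorem eq_of_image_eq [IsSepClosed k] (K : Type u) [Field K] [Algebra k K]
    {T T' : Set ↥(pullback f (Spec.map (CommRingCat.ofHom (algebraMap k K))))}
    (hT : T ∈ irreducibleComponents ↥(pullback f (Spec.map (CommRingCat.ofHom (algebraMap k K)))))
    (hT' : T' ∈ irreducibleComponents ↥(pullback f (Spec.map (CommRingCat.ofHom (algebraMap k K)))))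
    (h : pullback.fst f (Spec.map (CommRingCat.ofHom (algebraMap k K))) '' T =
      pullback.fst f (Spec.map (CommRingCat.ofHom (algebraMap k K))) '' T') : T = T' := by
  have := gi_fst f K
  let π := pullback.fst f (Spec.map (CommRingCat.ofHom (algebraMap k K)))
  have key : ∀ T ∈ irreducibleComponents ↥(pullback f (Spec.map (CommRingCat.ofHom (algebraMap k K)))),
      T = π ⁻¹' (π '' T) := fun T hT => le_antisymm (Set.subset_preimage_image _ _)
    (hT.2 (π.isIrreducible_preimage π.isOpenMap (hT.1.image _ π.continuous.continuousOn)) (Set.subset_preimage_image _ _))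
  rw [key T hT, key T' hT', h]

theorem connectedComponentsMap_bijective [IsSepClosed k] (K : Type u) [Field K] [Algebra k K] :
    Function.Bijective (Continuous.connectedComponentsMap
      (pullback.fst f (Spec.map (CommRingCat.ofHom (algebraMap k K)))).continuous) := by
  have := gi_fst f K
  let π := pullback.fst f (Spec.map (CommRingCat.ofHom (algebraMap k K)))
  have hq : Topology.IsQuotientMap π := π.isOpenMap.isQuotientMap π.continuous π.surjective
  have hfib : ∀ y, _root_.IsConnected (π ⁻¹' {y}) := fun y =>
    (π.isIrreducible_preimage π.isOpenMap isIrreducible_singleton).isConnected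
  refine ⟨fun a b hab => ?_, fun c => ?_⟩
  · obtain ⟨a, rfl⟩ := ConnectedComponents.surjective_coe a
    obtain ⟨b, rfl⟩ := ConnectedComponents.surjective_coe b
    refine ConnectedComponents.coe_eq_coe.2 ?_
    rw [← hq.isCoinducing.preimage_connectedComponent hfib, ← hq.isCoinducing.preimage_connectedComponent hfib]
    exact congrArg (π ⁻¹' ·) (ConnectedComponents.coe_eq_coe.1 hab)
  · obtain ⟨y, rfl⟩ := ConnectedComponents.surjective_coe c
    obtain ⟨z, rfl⟩ := π.surjective y
    exact ⟨ConnectedComponents.mk z, rfl⟩

variable (K Ω : Type u) [Field K] [Algebra k K] [Field Ω] [Algebra k Ω] [IsAlgClosed Ω]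

theorem mk_components_le :
    Cardinal.mk ↥(irreducibleComponents ↥(FBase.bc f K)) ≤ Cardinal.mk ↥(irreducibleComponents ↥(FBase.bc f Ω)) := by
  obtain ⟨E, _, a, b, hab⟩ := SweepSix.GeomConn.exists_compositum (k := k) K Ω
  letI : Algebra K E := a.toAlgebra
  letI : Algebra Ω E := b.toAlgebra
  letI : Algebra k E := (a.comp (algebraMap k K)).toAlgebra
  haveI : IsScalarTower k K E := IsScalarTower.of_algebraMap_eq fun _ => rfl
  haveI : IsScalarTower k Ω E := IsScalarTower.of_algebraMap_eq fun r => DFunLike.congr_fun hab r
  have := surjective_bcMap f K E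
  let p := bcMap f K E
  have hgen : ∀ D : irreducibleComponents ↥(FBase.bc f K), ∃ w, p w = D.2.1.genericPoint := fun D => p.surjective _
  choose w hw using hgen
  let G : irreducibleComponents ↥(FBase.bc f K) → irreducibleComponents ↥(pullback f (Spec.map (CommRingCat.ofHom (algebraMap k Ω)))) :=
    fun D => ⟨_, (image_mem_components f Ω E (irreducibleComponent_mem_irreducibleComponents (w D))).1⟩
  refine Cardinal.mk_le_of_injective (f := G) fun D D' h => Subtype.ext ?_
  have h0 : irreducibleComponent (w D) = irreducibleComponent (w D') := by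
    rw [← (image_mem_components f Ω E (irreducibleComponent_mem_irreducibleComponents (w D))).2,
      ← (image_mem_components f Ω E (irreducibleComponent_mem_irreducibleComponents (w D'))).2]
    exact congrArg _ (congrArg Subtype.val h)
  obtain ⟨D'', hD'', hsub⟩ := exists_mem_irreducibleComponents_subset_of_isIrreducible _
    ((isIrreducible_irreducibleComponent (x := w D)).image p p.continuous.continuousOn)
  have key : ∀ D₁ : irreducibleComponents ↥(FBase.bc f K), D₁.2.1.genericPoint ∈ D'' → D₁.1 = D'' := fun D₁ h1 => by
    have hg := D₁.2.1.isGenericPoint_genericPoint_closure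
    rw [(isClosed_of_mem_irreducibleComponents _ D₁.2).closure_eq] at hg
    have hle : D₁.1 ≤ D'' := by
      rw [← hg.def]
      exact closure_minimal (Set.singleton_subset_iff.2 h1) (isClosed_of_mem_irreducibleComponents _ hD'')
    exact le_antisymm hle (D₁.2.2 hD''.1 hle)
  rw [key D (hsub ⟨w D, mem_irreducibleComponent, hw D⟩),
    key D' (hsub ⟨w D', h0 ▸ mem_irreducibleComponent, hw D'⟩)]

theorem mk_connectedComponents_le :
    Cardinal.mk (_root_.ConnectedComponents ↥(FBase.bc f K)) ≤
      Cardinal.mk (_root_.ConnectedComponents ↥(FBase.bc f Ω)) := by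
  obtain ⟨E, _, a, b, hab⟩ := SweepSix.GeomConn.exists_compositum (k := k) K Ω
  letI : Algebra K E := a.toAlgebra
  letI : Algebra Ω E := b.toAlgebra
  letI : Algebra k E := (a.comp (algebraMap k K)).toAlgebra
  haveI : IsScalarTower k K E := IsScalarTower.of_algebraMap_eq fun _ => rfl
  haveI : IsScalarTower k Ω E := IsScalarTower.of_algebraMap_eq fun r => DFunLike.congr_fun hab r
  let π := bcMap f Ω E
  have := surjective_bcMap f Ω E
  have : GeometricallyIrreducible π :=
    MorphismProperty.of_isPullback (isPullback_bcMap f Ω E).flip (SweepSix.GeomConn.gi_specMap (k := Ω) E)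
  have : UniversallyOpen π := MorphismProperty.of_isPullback (isPullback_bcMap f Ω E).flip inferInstance
  have hq : Topology.IsQuotientMap π := π.isOpenMap.isQuotientMap π.continuous π.surjective
  have hfib : ∀ y, _root_.IsConnected (π ⁻¹' {y}) := fun y =>
    (π.isIrreducible_preimage π.isOpenMap isIrreducible_singleton).isConnected
  have := surjective_bcMap f K E
  let p := bcMap f K E
  have hinj : Function.Injective (Continuous.connectedComponentsMap π.continuous) := fun c d hcd => by
    obtain ⟨c, rfl⟩ := ConnectedComponents.surjective_coe c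
    obtain ⟨d, rfl⟩ := ConnectedComponents.surjective_coe d
    refine ConnectedComponents.coe_eq_coe.2 ?_
    rw [← hq.isCoinducing.preimage_connectedComponent hfib, ← hq.isCoinducing.preimage_connectedComponent hfib]
    exact congrArg (π ⁻¹' ·) (ConnectedComponents.coe_eq_coe.1 hcd)
  have hsurj : Function.Surjective (Continuous.connectedComponentsMap p.continuous) := fun c => by
    obtain ⟨y, rfl⟩ := ConnectedComponents.surjective_coe c
    obtain ⟨z, rfl⟩ := p.surjective y
    exact ⟨ConnectedComponents.mk z, rfl⟩
  exact (Cardinal.mk_le_of_surjective hsurj).trans (Cardinal.mk_le_of_injective hinj)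

end GalOrbLib
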