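import Mathlib

/-!
# Galois orbits in fibres of base change along normal field extensions
-/

set_option backward.isDefEq.respectTransparency false
set_option backward.isDefEq.respectTransparency.types false

universe u

open CategoryTheory Limits AlgebraicGeometry

namespace GalOrbLib

variable {k K : Type u} [Field k] [Field K] [Algebra k K]

theorem exists_algEquiv_comp [Normal k K] {E : Type u} [Field E] [Algebra k E] (i j : K →ₐ[k] E) :
    ∃ σ : K ≃ₐ[k] K, ∀ a, i (σ a) = j a := by
  let e : K ≃ₐ[k] i.fieldRange := AlgEquiv.ofInjectiveField i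
  haveI : Normal k i.fieldRange := Normal.of_algEquiv e
  have he : ∀ b, i (e.symm b) = (b : E) := fun b => congrArg Subtype.val (e.apply_symm_apply b)
  have hr : j.fieldRange = i.fieldRange := by
    have := AlgHom.fieldRange_of_normal (E := i.fieldRange) (j.comp e.symm.toAlgHom)
    rw [← this]
    ext z
    simp only [AlgHom.mem_fieldRange, AlgHom.coe_comp, Function.comp_apply]
    exact ⟨fun ⟨a, ha⟩ => ⟨e a, by simpa using ha⟩, fun ⟨b, hb⟩ => ⟨e.symm b, hb⟩⟩
  refine ⟨(AlgEquiv.ofInjectiveField j).trans ((IntermediateField.equivOfEq hr).trans e.symm), fun a => ?_⟩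
  exact he _

variable {X : Scheme.{u}} (f : X ⟶ Spec (CommRingCat.of k))

/-- The action of an automorphism on the base change. -/
noncomputable def gal (σ : K ≃ₐ[k] K) :
    pullback f (Spec.map (CommRingCat.ofHom (algebraMap k K))) ⟶
      pullback f (Spec.map (CommRingCat.ofHom (algebraMap k K))) :=
  pullback.map _ _ _ _ (𝟙 X) (Spec.map (CommRingCat.ofHom (σ : K →ₐ[k] K).toRingHom)) (𝟙 _)
    (by simp) (by rw [Category.comp_id, ← Spec.map_comp, ← CommRingCat.ofHom_comp,
      AlgHom.toRingHom_eq_coe, AlgHom.comp_algebraMap])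

theorem gal_fst (σ : K ≃ₐ[k] K) : gal f σ ≫ pullback.fst _ _ = pullback.fst _ _ := by
  simp [gal]

theorem isIso_gal (σ : K ≃ₐ[k] K) : IsIso (gal f σ) := by
  have : IsIso (CommRingCat.ofHom (σ : K →ₐ[k] K).toRingHom) := σ.toRingEquiv.toCommRingCatIso.isIso_hom
  have : IsIso (Spec.map (CommRingCat.ofHom (σ : K →ₐ[k] K).toRingHom)) := inferInstance
  unfold gal
  infer_instance

/-- Points in the same fibre are conjugate. -/
theorem exists_gal_eq [Normal k K] (a b : ↥(pullback f (Spec.map (CommRingCat.ofHom (algebraMap k K)))))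
    (h : pullback.fst f (Spec.map (CommRingCat.ofHom (algebraMap k K))) a =
      pullback.fst f (Spec.map (CommRingCat.ofHom (algebraMap k K))) b) :
    ∃ σ : K ≃ₐ[k] K, gal f σ a = b := by
  let s := Spec.map (CommRingCat.ofHom (algebraMap k K))
  let π := pullback.fst f s
  obtain ⟨c, hc₁, hc₂⟩ := Scheme.Pullback.exists_preimage_pullback a b h
  let P := pullback π π
  let A : Spec (P.residueField c) ⟶ pullback f s := P.fromSpecResidueField c ≫ pullback.fst π π
  let B : Spec (P.residueField c) ⟶ pullback f s := P.fromSpecResidueField c ≫ pullback.snd π π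
  have hAB : A ≫ π = B ≫ π := by rw [Category.assoc, Category.assoc, pullback.condition]
  obtain ⟨iA, hA⟩ := Spec.map_surjective (A ≫ pullback.snd f s)
  obtain ⟨iB, hB⟩ := Spec.map_surjective (B ≫ pullback.snd f s)
  letI : Algebra k (P.residueField c) := (iA.hom.comp (algebraMap k K)).toAlgebra
  have hk : CommRingCat.ofHom (algebraMap k K) ≫ iB = CommRingCat.ofHom (algebraMap k K) ≫ iA := by
    apply Spec.map_injective
    rw [Spec.map_comp, Spec.map_comp, hA, hB, Category.assoc, Category.assoc, ← pullback.condition]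
    exact ((Category.assoc _ _ _).symm.trans (congrArg (· ≫ f) hAB.symm)).trans (((Category.assoc _ _ _).trans (congrArg (A ≫ ·) pullback.condition)).trans (Category.assoc _ _ _).symm)
  let i : K →ₐ[k] P.residueField c := AlgHom.mk iA.hom fun _ => rfl
  let j : K →ₐ[k] P.residueField c :=
    AlgHom.mk iB.hom fun r => DFunLike.congr_fun (congrArg CommRingCat.Hom.hom hk) r
  obtain ⟨σ, hσ⟩ := exists_algEquiv_comp i j
  refine ⟨σ, ?_⟩
  have key : A ≫ gal f σ = B := by
    apply pullback.hom_ext
    · rw [Category.assoc, gal_fst]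
      exact hAB
    · rw [gal, pullback.map, Category.assoc, pullback.lift_snd, ← Category.assoc, ← hA, ← Spec.map_comp, ← hB]
      congr 1
      exact CommRingCat.hom_ext (RingHom.ext hσ)
  let z : Spec (P.residueField c) := IsLocalRing.closedPoint _
  have hz : P.fromSpecResidueField c z = c := Scheme.fromSpecResidueField_apply _ _
  rw [← hc₁, ← hc₂, ← hz, ← Scheme.Hom.comp_apply, ← Scheme.Hom.comp_apply, ← Scheme.Hom.comp_apply]
  exact congrArg (fun m : Spec (P.residueField c) ⟶ pullback f s => m z) key

end GalOrbLib
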